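import Cfsg.Agent.H125.Hall.Defs
import Cfsg.Agent.H698.FinePR

/-!
# S2223, TEAM HALLPRO: tools for the rows `ALS` (helper312)

* `ker_le_of_ne_one` : the kernel of a nontrivial homomorphism of a perfect central extension of a simple group is
  contained in the kernel of the extension;
* `le_of_bd` : the bounds `H912.Bd` apply to `PR m T` if the Schur multiplier has order prime to `r`;
* `le_of_ls` : the bounds `H203.LS` apply to `PR m T`;
* `v2_le`, `v2_lt` : `v2 T` from an upper bound for `|Aut T|`;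
* `als_of` : the criterion.
-/

set_option autoImplicit false

namespace Cfsg.Agent.H312.Hall

open Cfsg.Agent.H125.Hall

universe v

theorem perfect_of_surj {P T : Type} [Group P] [Group T] {π : P →* T} (hπ : Function.Surjective π)
    (hP : commutator P = ⊤) : commutator T = ⊤ := by
  have h6 : (commutator P).map π = commutator T := by
    rw [commutator_def, commutator_def, Subgroup.map_commutator, ← MonoidHom.range_eq_map, MonoidHom.range_eq_top.2 hπ]
  rw [← h6, hP, ← MonoidHom.range_eq_map, MonoidHom.range_eq_top.2 hπ]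

theorem ker_le_of_ne_one {P T : Type} [Group P] [Group T] [IsSimpleGroup T] {π : P →* T}
    (hπ : Function.Surjective π) (hc : π.ker ≤ Subgroup.center P) (hP : commutator P = ⊤) {M : Type*} [Group M]
    {ρ : P →* M} (hρ : ρ ≠ 1) : ρ.ker ≤ π.ker := by
  have hn : (ρ.ker.map π).Normal := (inferInstance : ρ.ker.Normal).map π hπ
  rcases hn.eq_bot_or_eq_top with h | h
  · intro x hx
    rw [MonoidHom.mem_ker]
    have h1 : π x ∈ ρ.ker.map π := ⟨x, hx, rfl⟩
    rwa [h, Subgroup.mem_bot] at h1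
  · exfalso
    apply hρ
    have hle : commutator P ≤ ρ.ker := by
      rw [commutator_def, Subgroup.commutator_le]
      intro x _ y _
      have key : ∀ x : P, ∃ d ∈ ρ.ker, ∃ c ∈ Subgroup.center P, x = d * c := by
        intro x
        have h1 : π x ∈ ρ.ker.map π := by rw [h]; trivial
        obtain ⟨d, hd, hdx⟩ := h1
        exact ⟨d, hd, d⁻¹ * x, hc (by rw [MonoidHom.mem_ker, map_mul, map_inv, hdx, inv_mul_cancel]), by group⟩
      obtain ⟨d, hd, c, hc1, rfl⟩ := key x
      obtain ⟨d', hd', c', hc1', rfl⟩ := key y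
      rw [MonoidHom.mem_ker] at hd hd' ⊢
      rw [commutatorElement_def, map_mul, map_mul, map_mul, map_inv, map_inv, map_mul, map_mul, hd, hd', one_mul,
        one_mul]
      have h2 : c * c' = c' * c := (Subgroup.mem_center_iff.1 hc1 c').symm
      rw [← map_mul, h2, map_mul]
      group
    ext x
    have h1 : x ∈ ρ.ker := hle (by rw [hP]; trivial)
    rw [MonoidHom.mem_ker] at h1
    rw [h1, MonoidHom.one_apply]

theorem cast_ne {T k : Type} [Group T] [Field k] {r : ℕ} (hk : (Nat.card T : k) ≠ 0)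
    (hrT : r ∣ Nat.card T) : (r : k) ≠ 0 := by
  intro h
  apply hk
  obtain ⟨a, ha⟩ := hrT
  rw [ha, Nat.cast_mul, h, zero_mul]

/-- The lower bounds `H912.Bd` apply when the Schur multiplier has order prime to `r`. -/
theorem le_of_bd {m r d : ℕ} {T : Type} [Group T] [IsSimpleGroup T] (hrT : r ∣ Nat.card T)
    {A : Type v} [CommGroup A] (hM : Cfsg.HasSchurMultiplier T A) (hA : (Nat.card A).Coprime r)
    (hB : ∀ (F : Type) [Field F], (r : F) ≠ 0 → Cfsg.Agent.H912.Bd.Bd F r d T) (h : PR m T) : d ≤ m := by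
  obtain ⟨k, _, P, _, _, π, ρ, h1, h2, h3, h4, h5⟩ := h
  refine hB k (cast_ne h5 hrT) m ⟨P, inferInstance, π, ρ, h1, ?_, H698.ker_coprime hM hA π h1 h2 h3, ?_⟩
  · intro x hx y
    exact ((Subgroup.mem_center_iff.1 (h2 hx)) y).symm
  · exact ker_le_of_ne_one h1 h2 h3 h4

theorem le_of_bd_cyclic {m r d a : ℕ} {T : Type} [Group T] [IsSimpleGroup T] (hrT : r ∣ Nat.card T)
    (hM : Cfsg.HasCyclicSchurMultiplier T a) (hA : a.Coprime r)
    (hB : ∀ (F : Type) [Field F], (r : F) ≠ 0 → Cfsg.Agent.H912.Bd.Bd F r d T) (h : PR m T) : d ≤ m := by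
  refine le_of_bd hrT hM ?_ hB h
  rw [Nat.card_congr Multiplicative.toAdd, Nat.card_zmod]
  exact hA

/-- The lower bounds `H203.LS` apply. -/
theorem le_of_ls {m r d : ℕ} {T : Type} [Group T] (hrT : r ∣ Nat.card T) (hLS : H203.LS.LS.{0, 0, 0} r d T)
    (h : PR m T) : d ≤ m := by
  obtain ⟨k, _, P, _, _, π, ρ, h1, h2, h3, h4, h5⟩ := h
  exact hLS P π h1 h2 h3 k (cast_ne h5 hrT) m ρ h4

theorem v2_le {T : Type*} [Group T] [Finite T] {e : ℕ} (h : Nat.card (MulAut T) < 2 ^ (e + 1)) : v2 T ≤ e := by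
  have h1 : 2 ^ v2 T ∣ Nat.card (MulAut T) := Nat.ordProj_dvd _ _
  have hf : Finite (MulAut T) := Finite.of_injective (fun f : MulAut T => (f : T → T)) DFunLike.coe_injective
  have h2 : 2 ^ v2 T < 2 ^ (e + 1) := (Nat.le_of_dvd Nat.card_pos h1).trans_lt h
  exact Nat.lt_succ_iff.1 ((Nat.pow_lt_pow_iff_right (by norm_num)).1 h2)

/-- `v2 T` from the order of `Aut T` -/
theorem v2_eq {T : Type*} [Group T] {e c : ℕ} (h : Nat.card (MulAut T) = 2 ^ e * c) (hc : Odd c) : v2 T = e := by
  have hc0 : c ≠ 0 := by rintro rfl; exact absurd hc (by decide)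
  have hc2 : ¬ 2 ∣ c := by rw [← even_iff_two_dvd, Nat.not_even_iff_odd]; exact hc
  unfold v2
  rw [h, Nat.factorization_mul (by positivity) hc0, Nat.Prime.factorization_pow Nat.prime_two]
  simp [Nat.factorization_eq_zero_of_not_dvd hc2]

/-- The criterion. -/
theorem als_of {T : Type} [Group T] {d : ℕ} (hd : ∀ m, PR m T → d ≤ m) (h6 : 6 ≤ d) (hv : 2 * v2 T + 4 ≤ 3 * d)
    (h27 : d ≤ 27 → v2 T ≤ 16) : ALS T := by
  intro m hm
  have h := hd m hm
  refine ⟨fun h1 => absurd (h6.trans h) (by omega), fun h1 => absurd (h6.trans h) (by omega), fun _ => by omega,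
    fun h1 => h27 (h.trans h1)⟩

end Cfsg.Agent.H312.Hall
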